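import Cfsg.Agent.H67.Fi24J.Links

/-!
The similitudes fixing the representative act on the twenty-seven subspaces.
-/

set_option autoImplicit false
set_option maxRecDepth 100000

namespace H67.Fi24J

open H16.Fi24

/-- Additive maps commuting with scalars up to a field automorphism, preserving form and classes and fixing
the representative. -/
structure IsGood (g : Equiv.Perm W) : Prop where
  add : ∀ u v, g (u + v) = g u + g v
  scal : (∀ v, g (wW v) = wW (g v)) ∨ ∀ v, g (wW v) = wW (wW (g v))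
  q : ∀ v, qf (g v) = qf v
  lb : ∀ v, lab (g v) = lab v
  fix : g (rep 2) = rep 2

/-- The group of such maps. -/
def Good : Subgroup (Equiv.Perm W) where
  carrier := {g | IsGood g}
  one_mem' := ⟨fun _ _ => rfl, Or.inl fun _ => rfl, fun _ => rfl, fun _ => rfl, rfl⟩
  mul_mem' := fun {a b} ha hb => by
    refine ⟨fun u v => ?_, ?_, fun v => (ha.q _).trans (hb.q v), fun v => (ha.lb _).trans (hb.lb v), ?_⟩
    · show a (b (u + v)) = _
      rw [hb.add, ha.add]
      rfl
    · rcases ha.scal with h | h <;> rcases hb.scal with h' | h'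
      · exact Or.inl fun v => by show a (b (wW v)) = _; rw [h', h]; rfl
      · exact Or.inr fun v => by show a (b (wW v)) = _; rw [h', h, h]; rfl
      · exact Or.inr fun v => by show a (b (wW v)) = _; rw [h', h]; rfl
      · refine Or.inl fun v => ?_
        show a (b (wW v)) = _
        rw [h', h, h, wW_three]
        rfl
    · show a (b (rep 2)) = _
      rw [hb.fix, ha.fix]
  inv_mem' := fun {a} ha => by
    have e : ∀ v, a (a⁻¹ v) = v := fun v => a.apply_symm_apply v
    refine ⟨fun u v => a.injective ?_, ?_, fun v => ?_, fun v => ?_, a.injective ?_⟩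
    · rw [ha.add, e, e, e]
    · rcases ha.scal with h | h
      · exact Or.inl fun v => a.injective (by rw [h, e, e])
      · exact Or.inr fun v => a.injective (by rw [h, h, e, e, wW_three])
    · rw [← ha.q (a⁻¹ v), e]
    · rw [← ha.lb (a⁻¹ v), e]
    · rw [e, ha.fix]

variable {g h : Equiv.Perm W}

theorem IsGood.zero (hg : IsGood g) : g 0 = 0 := by
  have h := hg.add 0 0
  rw [add_zero] at h
  exact left_eq_add.mp h

theorem IsGood.Bf_map (hg : IsGood g) (u v : W) : Bf (g u) (g v) = Bf u v := by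
  rw [Bf, Bf, ← hg.add, hg.q, hg.q, hg.q]

theorem Bf_add_right (v a b : W) : Bf v (a + b) = Bf v a + Bf v b := by
  have key : ∀ i : Fin 6, ∀ x y z : F4, (nz (x + (y + z)) : ZMod 2) + nz x + nz (y + z) =
      (nz (x + y) + nz x + nz y) + (nz (x + z) + nz x + nz z) := fun _ => by decide
  have hq : ∀ u : W, qf u = ∑ j, (nz (u j) : ZMod 2) := fun u => by
    simp only [qf, cnt, Fin.sum_univ_six, Nat.cast_add]
  simp only [Bf, hq, ← Finset.sum_add_distrib, Pi.add_apply]
  exact Finset.sum_congr rfl fun i _ => key i _ _ _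

theorem IsGood.perp (hg : IsGood g) {x : W} (hx : x 0 = x 1) : g x 0 = g x 1 := by
  obtain ⟨h1, h2⟩ := (perp_iff x).1 hx
  refine (perp_iff _).2 ⟨?_, ?_⟩
  · rw [← hg.fix, hg.Bf_map, h1]
  · rcases hg.scal with h | h
    · rw [← h, ← hg.fix, hg.Bf_map, h2]
    · have e : wW (g x) = g (wW (wW x)) := by rw [h, h, wW_three]
      rw [e, ← hg.fix, hg.Bf_map, wW_two, Bf_add_right, h1, h2, add_zero]

theorem sg_perp (u : U) : sg u 0 = sg u 1 := rfl

theorem cv_perp (c : F4) : cv c 0 = cv c 1 := rfl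

theorem IsGood.pr_cv (hg : IsGood g) (c : F4) : pr (g (cv c)) = 0 := by
  rcases cv_cases c with e | e | e | e <;> rw [e]
  · rw [hg.zero]; rfl
  · rw [hg.fix]; rfl
  · rcases hg.scal with h | h <;> rw [h, hg.fix] <;> rfl
  · rcases hg.scal with h | h <;> simp only [h, hg.fix] <;> rfl

/-- The induced map. -/
def gU (g : Equiv.Perm W) (u : U) : U := pr (g (sg u))

theorem IsGood.gU_add (hg : IsGood g) (a b : U) : gU g (a + b) = gU g a + gU g b := by
  rw [gU, sg_add, hg.add, pr_add]
  rfl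

theorem IsGood.gU_zero (hg : IsGood g) : gU g 0 = 0 := by
  rw [gU, sg_zero, hg.zero]
  rfl

theorem gU_one (u : U) : gU 1 u = u := rfl

theorem gU_mul (hg : IsGood g) (hh : IsGood h) (u : U) : gU (g * h) u = gU g (gU h u) := by
  show pr (g (h (sg u))) = _
  conv_lhs => rw [decomp_perp _ (hh.perp (sg_perp u))]
  rw [hg.add, pr_add, hg.pr_cv, add_zero]
  rfl

theorem IsGood.gU_inj (hg : IsGood g) {a b : U} (e : gU g a = gU g b) : a = b := by
  have hi : IsGood g⁻¹ := Good.inv_mem hg
  have key : ∀ u, gU g⁻¹ (gU g u) = u := fun u => by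
    rw [← gU_mul hi hg, inv_mul_cancel]
    rfl
  rw [← key a, e, key]

theorem IsGood.gU_qU (hg : IsGood g) (u : U) : qU (gU g u) = qU u := by
  rw [gU, ← qf_pr _ (hg.perp (sg_perp u)), hg.q]
  rfl

theorem IsGood.gU_BU (hg : IsGood g) (a b : U) : BU (gU g a) (gU g b) = BU a b := by
  rw [BU, BU, ← hg.gU_add, hg.gU_qU, hg.gU_qU, hg.gU_qU]

theorem IsGood.gU_scal (hg : IsGood g) :
    (∀ u, gU g (wU u) = wU (gU g u)) ∨ ∀ u, gU g (wU u) = wU (wU (gU g u)) := by
  rcases hg.scal with h | h
  · exact Or.inl fun u => by rw [gU, sg_wU, h]; rfl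
  · exact Or.inr fun u => by rw [gU, sg_wU, h]; rfl

theorem BU_add_right (a b c : U) : BU a (b + c) = BU a b + BU a c := by
  rw [BU_eq, BU_eq, BU_eq, sg_add, Bf_add_right]

theorem IsGood.gU_OU (hg : IsGood g) {a b : U} (o : OU a b) : OU (gU g a) (gU g b) := by
  refine ⟨by rw [hg.gU_BU]; exact o.1, ?_⟩
  rcases hg.gU_scal with h | h
  · rw [← h, hg.gU_BU]; exact o.2
  · have e : wU (gU g b) = gU g (wU (wU b)) := by rw [h, h, wU_three]
    rw [e, hg.gU_BU, wU_two, BU_add_right, o.1, o.2, add_zero]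

theorem IsGood.gU_mult (hg : IsGood g) {a b : U} :
    (gU g b = 0 ∨ gU g b = gU g a ∨ gU g b = wU (gU g a) ∨ gU g b = wU (wU (gU g a))) ↔
      (b = 0 ∨ b = a ∨ b = wU a ∨ b = wU (wU a)) := by
  have e0 : ∀ x, gU g x = 0 ↔ x = 0 := fun x =>
    ⟨fun e => hg.gU_inj (e.trans hg.gU_zero.symm), fun e => e ▸ hg.gU_zero⟩
  have e1 : ∀ x y, gU g x = gU g y ↔ x = y := fun x y => ⟨hg.gU_inj, fun e => e ▸ rfl⟩
  rcases hg.gU_scal with h | h
  · rw [← h, ← h, e0, e1, e1, e1]
  · have e : wU (gU g a) = gU g (wU (wU a)) := by rw [h, h, wU_three]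
    rw [e0, e1, e, e1, ← e, ← h, e1]
    tauto

theorem gens_props (i : Fin 27) : qU (gA i) = 0 ∧ qU (gB i) = 0 ∧ OU (gA i) (gB i) ∧ gA i ≠ 0 ∧
    ¬ (gB i = 0 ∨ gB i = gA i ∨ gB i = wU (gA i) ∨ gB i = wU (wU (gA i))) := by
  obtain ⟨-, -, hqa, hqb, hor, hmul, hne⟩ := gens_ok i
  obtain ⟨ea, eb⟩ := cd_gen i
  refine ⟨(qC_eq_zero _).1 (ea.symm ▸ hqa), (qC_eq_zero _).1 (eb.symm ▸ hqb), ?_, ?_, ?_⟩
  · rw [← orC_cd, ea, eb]; exact hor
  · intro e
    rw [e, cd_zero] at ea
    exact hne ea.symm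
  · rw [← mulC_cd, ea, eb, hmul]
    exact Bool.false_ne_true

theorem IsGood.exists_line (hg : IsGood g) (i : Fin 27) :
    ∃ j, memU j (gU g (gA i)) ∧ memU j (gU g (gB i)) := by
  obtain ⟨qa, qb, o, ha, hb⟩ := gens_props i
  exact cover (by rw [hg.gU_qU, qa]) (by rw [hg.gU_qU, qb]) (hg.gU_OU o)
    (fun e => ha (hg.gU_inj (e.trans hg.gU_zero.symm))) (fun e => hb (hg.gU_mult.1 e))

/-- The image of a subspace. -/
noncomputable def lineMap (g : Good) (i : Fin 27) : Fin 27 := (g.2.exists_line i).choose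

theorem lineMap_unique (g : Good) {i j : Fin 27} (ha : memU j (gU g (gA i)))
    (hb : memU j (gU g (gB i))) : lineMap g i = j := by
  obtain ⟨-, -, -, hne, hm⟩ := gens_props i
  have hg : IsGood (g : Equiv.Perm W) := g.2
  exact line_unique (g.2.exists_line i).choose_spec.1 (g.2.exists_line i).choose_spec.2 ha hb
    (fun e => hne (hg.gU_inj (e.trans hg.gU_zero.symm))) (fun e => hm (hg.gU_mult.1 e))

theorem memU_lineMap (g : Good) {i : Fin 27} {u : U} (hu : memU i u) :
    memU (lineMap g i) (gU g u) := by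
  have hg : IsGood (g : Equiv.Perm W) := g.2
  have hA := (g.2.exists_line i).choose_spec.1
  have hB := (g.2.exists_line i).choose_spec.2
  have hw : ∀ a, memU (lineMap g i) (gU g a) → memU (lineMap g i) (gU g (wU a)) := fun a ha => by
    rcases hg.gU_scal with h | h <;> rw [h]
    · exact memU_wU ha
    · exact memU_wU (memU_wU ha)
  refine memU_ind (p := fun u => memU (lineMap g i) (gU g u)) ?_ ?_ hA (hw _ hA) hB (hw _ hB) hu
  · rw [hg.gU_zero]; exact memU_zero _
  · intro a b ha hb
    rw [hg.gU_add]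
    exact memU_add ha hb

theorem lineMap_one (i : Fin 27) : lineMap 1 i = i :=
  lineMap_unique 1 (memU_gA i) (memU_gB i)

theorem lineMap_mul (a b : Good) (i : Fin 27) : lineMap (a * b) i = lineMap a (lineMap b i) := by
  refine lineMap_unique (a * b) ?_ ?_
  · rw [Subgroup.coe_mul, gU_mul a.2 b.2]
    exact memU_lineMap a (memU_lineMap b (memU_gA i))
  · rw [Subgroup.coe_mul, gU_mul a.2 b.2]
    exact memU_lineMap a (memU_lineMap b (memU_gB i))

/-- The action on the subspaces. -/
noncomputable def linePerm : Good →* Equiv.Perm (Fin 27) where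
  toFun g :=
    { toFun := lineMap g
      invFun := lineMap g⁻¹
      left_inv := fun i => by rw [← lineMap_mul, inv_mul_cancel, lineMap_one]
      right_inv := fun i => by rw [← lineMap_mul, mul_inv_cancel, lineMap_one] }
  map_one' := Equiv.ext lineMap_one
  map_mul' a b := Equiv.ext (lineMap_mul a b)

theorem meet_lineMap (g : Good) {i j : Fin 27} (h : meetC i.val j.val = true) :
    meetC (lineMap g i).val (lineMap g j).val = true := by
  obtain ⟨u, hu, hi, hj⟩ := (meetC_iff i j).1 h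
  have hg : IsGood (g : Equiv.Perm W) := g.2
  exact (meetC_iff _ _).2 ⟨gU g u, fun e => hu (hg.gU_inj (e.trans hg.gU_zero.symm)),
    memU_lineMap g hi, memU_lineMap g hj⟩

theorem linePerm_mem (g : Good) : linePerm g ∈ presPerm := by
  intro i j
  have key : P6 (sv (linePerm g i)) (sv (linePerm g j)) = 0 ↔ P6 (sv i) (sv j) = 0 := by
    rw [P6_meet, P6_meet, (linePerm g).injective.eq_iff]
    refine or_congr Iff.rfl ⟨fun h => ?_, meet_lineMap g⟩
    have h2 := meet_lineMap g⁻¹ h
    rwa [show lineMap g⁻¹ (linePerm g i) = i from (linePerm g).symm_apply_apply i,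
      show lineMap g⁻¹ (linePerm g j) = j from (linePerm g).symm_apply_apply j] at h2
  revert key
  generalize P6 (sv (linePerm g i)) (sv (linePerm g j)) = a
  generalize P6 (sv i) (sv j) = b
  revert a b
  decide

/-- The map into the isometry group. -/
noncomputable def goodHom : Good →* Cfsg.isometryGroup (ZMod 2) form6 :=
  toIso.comp (linePerm.codRestrict presPerm linePerm_mem)

theorem linePerm_of_goodHom {g : Good} (h : goodHom g = 1) : linePerm g = 1 :=
  congrArg Subtype.val ((map_eq_one_iff toIso toIso_injective).1 h)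

end H67.Fi24J
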