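import Cfsg.Agent.H67.Fi24J.Lines
import Cfsg.Prelude.Def_Classical

/-!
A permutation of the twenty-seven singular vectors of the elliptic form in dimension six over the field
with two elements that preserves orthogonality comes from a unique isometry.
-/

set_option autoImplicit false
set_option maxRecDepth 100000

namespace H67.Fi24J

open Matrix

/-- The index type. -/
abbrev Ix : Type := (Fin 2 ⊕ Fin 2) ⊕ Fin 2

/-- The form. -/
abbrev form6 : (Ix → ZMod 2) → ZMod 2 := Cfsg.quadFormMinus 2 (ZMod 2) 1 1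

/-- The position of an index. -/
def pos : Ix → ℕ
  | .inl (.inl i) => i.val
  | .inl (.inr i) => 2 + i.val
  | .inr i => 4 + i.val

/-- The index at a position. -/
def ixOf : Fin 6 → Ix := ![.inl (.inl 0), .inl (.inl 1), .inl (.inr 0), .inl (.inr 1), .inr 0, .inr 1]

/-- The listed vectors. -/
def sv (i : Fin 27) : Ix → ZMod 2 := fun r => ((vecList.getD i.val 0 >>> pos r : ℕ) : ZMod 2)

/-- The polarisation. -/
def P6 (x y : Ix → ZMod 2) : ZMod 2 :=
  x (.inl (.inl 0)) * y (.inl (.inr 0)) + x (.inl (.inr 0)) * y (.inl (.inl 0)) +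
    (x (.inl (.inl 1)) * y (.inl (.inr 1)) + x (.inl (.inr 1)) * y (.inl (.inl 1))) +
    (x (.inr 0) * y (.inr 1) + x (.inr 1) * y (.inr 0))

theorem P6_add (x x' y : Ix → ZMod 2) : P6 (x + x') y = P6 x y + P6 x' y := by
  simp only [P6, Pi.add_apply]; ring

theorem P6_sum {α : Type*} (s : Finset α) (f : α → Ix → ZMod 2) (y : Ix → ZMod 2) :
    P6 (∑ a ∈ s, f a) y = ∑ a ∈ s, P6 (f a) y := by
  classical
  induction s using Finset.induction with
  | empty => simp [P6]
  | insert a s ha ih => rw [Finset.sum_insert ha, Finset.sum_insert ha, P6_add, ih]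

theorem P6_smul (c : ZMod 2) (x y : Ix → ZMod 2) : P6 (c • x) y = c * P6 x y := by
  simp only [P6, Pi.smul_apply, smul_eq_mul]; ring

theorem sv_inj : Function.Injective sv := by
  have h : ∀ i j, sv i = sv j → i = j := by decide +kernel
  exact fun i j => h i j

theorem nondeg : ∀ x : Ix → ZMod 2, (∀ j, P6 x (sv j) = 0) → x = 0 := by decide +kernel

theorem singular_iff : ∀ x : Ix → ZMod 2, x ≠ 0 → (form6 x = 0 ↔ ∃ i, sv i = x) := by decide +kernel

/-- The basis among the listed vectors. -/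
def bas (k : Fin 6) : Fin 27 := baseList.getD k.val 0

/-- The coefficient of a listed vector. -/
def cf (i : Fin 27) (k : Fin 6) : ZMod 2 := ((coeffList.getD i.val 0 >>> k.val : ℕ) : ZMod 2)

theorem sv_expand : ∀ i, sv i = ∑ k, cf i k • sv (bas k) := by decide +kernel

/-- The images of the basis as columns. -/
def colMat (π : Fin 27 → Fin 27) : Matrix Ix (Fin 6) (ZMod 2) := fun r k => sv (π (bas k)) r

/-- The inverse of the basis matrix. -/
def invMat : Matrix (Fin 6) Ix (ZMod 2) := fun k r => ((invList.getD k.val 0 >>> pos r : ℕ) : ZMod 2)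

theorem inv_col : invMat * colMat id = 1 := by decide +kernel

theorem col_inv : colMat id * invMat = 1 := by decide +kernel

/-- The matrix of a permutation. -/
def toMat (π : Fin 27 → Fin 27) : Matrix Ix Ix (ZMod 2) := colMat π * invMat

theorem toMat_bas (π : Fin 27 → Fin 27) (k : Fin 6) : toMat π *ᵥ sv (bas k) = sv (π (bas k)) := by
  have h : toMat π * colMat id = colMat π := by
    rw [toMat, Matrix.mul_assoc, inv_col, Matrix.mul_one]
  have := congrArg (fun A : Matrix Ix (Fin 6) (ZMod 2) => fun r => A r k) h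
  exact this

/-- The permutations preserving orthogonality. -/
def presPerm : Subgroup (Equiv.Perm (Fin 27)) where
  carrier := {π | ∀ i j, P6 (sv (π i)) (sv (π j)) = P6 (sv i) (sv j)}
  mul_mem' {a b} ha hb i j := (ha (b i) (b j)).trans (hb i j)
  one_mem' _ _ := rfl
  inv_mem' {a} ha i j := by
    have h := ha (a⁻¹ i) (a⁻¹ j)
    simp only [Equiv.Perm.coe_inv, Equiv.apply_symm_apply] at h
    exact h.symm

theorem toMat_sv {π : Equiv.Perm (Fin 27)} (hπ : π ∈ presPerm) (i : Fin 27) :
    toMat π *ᵥ sv i = sv (π i) := by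
  have e : toMat π *ᵥ sv i = ∑ k, cf i k • sv (π (bas k)) := by
    conv_lhs => rw [sv_expand i]
    rw [Matrix.mulVec_sum]
    exact Finset.sum_congr rfl fun k _ => by rw [Matrix.mulVec_smul, toMat_bas]
  rw [e, ← sub_eq_zero, sub_eq_add_neg]
  refine nondeg _ fun j => ?_
  obtain ⟨j, rfl⟩ := π.surjective j
  have hneg : ∀ x : Ix → ZMod 2, -x = x := fun x => funext fun r => ZMod.neg_eq_self_mod_two (x r)
  rw [hneg, P6_add, P6_sum]
  simp only [P6_smul, show ∀ a b, P6 (sv (π a)) (sv (π b)) = P6 (sv a) (sv b) from hπ]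
  have h2 : P6 (sv i) (sv j) = ∑ k, cf i k * P6 (sv (bas k)) (sv j) := by
    conv_lhs => rw [sv_expand i, P6_sum]
    simp only [P6_smul]
  rw [← h2, CharTwo.add_self_eq_zero]

theorem toMat_mul {π σ : Equiv.Perm (Fin 27)} (hπ : π ∈ presPerm) :
    toMat ⇑(π * σ) = toMat π * toMat σ := by
  have h : toMat π * colMat σ = colMat ⇑(π * σ) := by
    ext r k
    exact congrFun (toMat_sv hπ (σ (bas k))) r
  conv_rhs => rw [show toMat σ = colMat σ * invMat from rfl, ← Matrix.mul_assoc, h]
  rfl

theorem toMat_one : toMat ⇑(1 : Equiv.Perm (Fin 27)) = 1 := col_inv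

/-- The matrices form a group. -/
def toGL : presPerm →* GL Ix (ZMod 2) where
  toFun π :=
    { val := toMat (π : Equiv.Perm (Fin 27))
      inv := toMat ((π⁻¹ : presPerm) : Equiv.Perm (Fin 27))
      val_inv := by rw [← toMat_mul π.2, ← Subgroup.coe_mul, mul_inv_cancel]; exact toMat_one
      inv_val := by rw [← toMat_mul (π⁻¹).2, ← Subgroup.coe_mul, inv_mul_cancel]; exact toMat_one }
  map_one' := Units.ext toMat_one
  map_mul' π σ := Units.ext (toMat_mul π.2)

theorem toGL_mem (π : presPerm) : toGL π ∈ Cfsg.isometryGroup (ZMod 2) form6 := by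
  intro u _
  show form6 (toMat (π : Equiv.Perm (Fin 27)) *ᵥ u) = form6 u
  have hz : form6 0 = 0 := by decide
  have hback : ∀ w, toMat ((π⁻¹ : presPerm) : Equiv.Perm (Fin 27)) *ᵥ
      (toMat (π : Equiv.Perm (Fin 27)) *ᵥ w) = w := fun w => by
    rw [Matrix.mulVec_mulVec, ← toMat_mul (π⁻¹).2, ← Subgroup.coe_mul, inv_mul_cancel]
    show toMat ⇑(1 : Equiv.Perm (Fin 27)) *ᵥ w = w
    rw [toMat_one, Matrix.one_mulVec]
  by_cases hu : u = 0
  · rw [hu, Matrix.mulVec_zero]
  set x := toMat (π : Equiv.Perm (Fin 27)) *ᵥ u with hx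
  have hx0 : x ≠ 0 := fun e => hu (by rw [← hback u, ← hx, e, Matrix.mulVec_zero])
  have key : form6 x = 0 ↔ form6 u = 0 := by
    rw [singular_iff x hx0, singular_iff u hu]
    constructor
    · rintro ⟨j, hj⟩
      exact ⟨_, ((toMat_sv (π⁻¹).2 j).symm.trans (by rw [hj, hx, hback]))⟩
    · rintro ⟨i, rfl⟩
      exact ⟨_, (toMat_sv π.2 i).symm⟩
  revert key
  generalize form6 x = a
  generalize form6 u = b
  revert a b
  decide

/-- The homomorphism into the isometry group. -/
def toIso : presPerm →* Cfsg.isometryGroup (ZMod 2) form6 := toGL.codRestrict _ toGL_mem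

theorem toIso_injective : Function.Injective toIso := by
  intro π σ h
  refine Subtype.ext (Equiv.ext fun i => sv_inj ?_)
  rw [← toMat_sv π.2 i, ← toMat_sv σ.2 i]
  have e : toGL π = toGL σ := congrArg Subtype.val h
  have e2 : toMat ⇑(π : Equiv.Perm (Fin 27)) = toMat ⇑(σ : Equiv.Perm (Fin 27)) := congrArg Units.val e
  rw [e2]

end H67.Fi24J
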