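import Cfsg.Agent.H16.Fi24.Base

/-!
The exchange of the first two coordinates is not in the group: the group preserves a family of 162
maximal isotropic subspaces which the exchange does not.
-/

set_option autoImplicit false
set_option maxRecDepth 100000
set_option maxHeartbeats 2000000

namespace H67.Fi24J

open H16.Fi24

/-- Indices of the subspaces. -/
abbrev Pl : Type := Fin 4 × ZMod 3 × ZMod 3 × ZMod 3 × ZMod 3

/-- Base exponents. -/
def baseExp : List ℕ := [2, 0, 0, 1, 1, 0, 0, 2, 0, 1, 0, 0, 2, 2, 0, 0, 1, 0, 1, 0, 0, 0, 1, 0, 2, 2, 0, 2, 0, 0, 0, 2, 0, 1, 1, 0]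

/-- The exponent matrix of an index. -/
def plExp (x : Pl) (j i : Fin 3) : ZMod 3 :=
  (baseExp.getD (9 * x.1.val + 3 * j.val + i.val) 0 : ℕ) +
    ((![x.2.1, x.2.2.1, x.2.2.2.1 + x.2.2.2.2 - x.2.2.1] : Fin 3 → ZMod 3) j +
      (![x.2.1, x.2.2.2.1, x.2.2.2.2] : Fin 3 → ZMod 3) i - x.2.1)

/-- The index of the image under the involution, as a number. -/
def twList : List ℕ := [285, 305, 263, 323, 322, 321, 213, 227, 170, 301, 207, 209, 262, 320, 286, 258, 275, 212, 290, 246, 200, 189, 184, 222, 195, 308, 196, 270, 232, 252, 230, 229, 268, 319, 303, 287, 288, 199, 310, 187, 220, 236, 243, 240, 242, 279, 167, 276, 210, 274, 299, 272, 266, 233, 177, 181, 218, 174, 294, 175, 248, 311, 198, 211, 298, 259, 165, 281, 256, 231, 265, 253, 164, 163, 284, 318, 261, 304, 277, 166, 255, 237, 172, 193, 309, 247, 289, 202, 201, 203, 226, 316, 168, 300, 302, 208, 297, 273, 260, 197, 307, 306, 183, 313, 223, 173, 239, 205, 264, 271, 254, 169,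 315, 214, 267, 269, 228, 244, 241, 245, 221, 186, 251, 204, 194, 171, 314, 185, 191, 291, 182, 179, 249, 188, 235, 216, 180, 293, 206, 238, 192, 295, 176, 296, 234, 219, 250, 217, 292, 178, 312, 190, 224, 225, 215, 317, 162, 283, 282, 257, 280, 278, 156, 73, 72, 66, 79, 46, 92, 111, 8, 125, 82, 105, 57, 59, 142, 54, 149, 131, 136, 55, 130, 102, 22, 127, 121, 39, 133, 21, 151, 128, 140, 83, 124, 24, 26, 99, 62, 37, 20, 88, 87, 89, 123, 107, 138, 10, 95, 11, 48, 63, 17, 6, 113, 154, 135, 147, 56, 145, 40, 120, 23, 104, 152, 153, 90, 7, 116, 31, 30, 69, 28, 53, 144, 134, 41, 81, 139, 106, 43, 118, 44, 42, 117, 119, 19, 85, 60, 132, 146, 122, 29, 71, 110, 80, 68, 159, 15, 65, 98, 76, 12, 2, 108, 70, 52, 114, 32, 115, 27, 109, 51, 97, 49, 16, 47, 78, 161, 45, 160, 67, 158, 157, 74, 0, 14, 35, 36, 86, 18, 129, 148, 137, 58, 141, 143, 96, 64, 50, 93, 9, 94, 34, 77, 1, 101, 100, 25, 84, 38, 61, 150, 103, 126, 112, 91, 155, 75, 33, 13,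 5, 4, 3]

/-- The index with a given number. -/
def plOf (n : ℕ) : Pl :=
  (Fin.ofNat 4 (n / 81), ((n / 27 : ℕ) : ZMod 3), ((n / 9 : ℕ) : ZMod 3), ((n / 3 : ℕ) : ZMod 3),
    (n : ZMod 3))

/-- The image index. -/
def twPl (x : Pl) : Pl :=
  plOf (twList.getD (81 * x.1.val + 27 * x.2.1.val + 9 * x.2.2.1.val + 3 * x.2.2.2.1.val +
    x.2.2.2.2.val) 0)

/-- The last three coordinates of an element of the subspace from the first three. -/
def plTail (x : Pl) (a b c : F4) (j : Fin 3) : F4 :=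
  mu (pw (plExp x j 0)) a + mu (pw (plExp x j 1)) b + mu (pw (plExp x j 2)) c

/-- The subspace. -/
def inPl (x : Pl) (v : W) : Prop :=
  v 3 = plTail x (v 0) (v 1) (v 2) 0 ∧ v 4 = plTail x (v 0) (v 1) (v 2) 1 ∧
    v 5 = plTail x (v 0) (v 1) (v 2) 2

/-- An element of the subspace. -/
def plVec (x : Pl) (a b c : F4) : W := ![a, b, c, plTail x a b c 0, plTail x a b c 1, plTail x a b c 2]

theorem eq_plVec {x : Pl} {v : W} (h : inPl x v) : v = plVec x (v 0) (v 1) (v 2) := funext fun i => by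
  fin_cases i <;> first | rfl | exact h.1 | exact h.2.1 | exact h.2.2

theorem plTail_add (x : Pl) (a b c a' b' c' : F4) (j : Fin 3) :
    plTail x (a + a') (b + b') (c + c') j = plTail x a b c j + plTail x a' b' c' j := by
  simp only [plTail, mu_add]; abel

theorem plTail_mu (x : Pl) (a b c e : F4) (j : Fin 3) :
    plTail x (mu e a) (mu e b) (mu e c) j = mu e (plTail x a b c j) := by
  have h : ∀ p e a : F4, mu p (mu e a) = mu e (mu p a) := fun p e a => by
    rw [← mu_assoc, ← mu_assoc, mu_comm p e]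
  simp only [plTail, mu_add, h]

theorem inPl_add {x : Pl} {u v : W} (hu : inPl x u) (hv : inPl x v) : inPl x (u + v) := by
  simp only [inPl, Pi.add_apply, plTail_add, hu.1, hu.2.1, hu.2.2, hv.1, hv.2.1, hv.2.2, and_self]

theorem inPl_sm {x : Pl} {v : W} (e : F4) (hv : inPl x v) : inPl x (sm e v) := by
  refine ⟨?_, ?_, ?_⟩ <;> simp only [sm, plTail_mu]
  · rw [hv.1]
  · rw [hv.2.1]
  · rw [hv.2.2]

theorem plVec_split (x : Pl) (a b c : F4) : plVec x a b c =
    sm a (plVec x (1, 0) 0 0) + sm b (plVec x 0 (1, 0) 0) + sm c (plVec x 0 0 (1, 0)) := by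
  have h' : ∀ a : F4, mu a (1, 0) = a ∧ mu a 0 = 0 := by decide
  funext i
  fin_cases i <;> simp [plVec, plTail, sm, h', mu_comm (pw _)]

theorem TW_add (u v : W) : TW (u + v) = TW u + TW v := isUni_TW.add u v

theorem TW_sm (e : F4) (v : W) : TW (sm e v) = sm e (TW v) := funext fun i => by
  show mu e (v 0) + mu e (v 1) + mu e (v 2) + mu e (v 3) + mu e (v 4) + mu e (v 5) + mu e (v i) =
    mu e (v 0 + v 1 + v 2 + v 3 + v 4 + v 5 + v i)
  simp only [mu_add]

/-- Decidable form of membership. -/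
def inPlB (x : Pl) (v : W) : Bool :=
  decide (v 3 = plTail x (v 0) (v 1) (v 2) 0) && decide (v 4 = plTail x (v 0) (v 1) (v 2) 1) &&
    decide (v 5 = plTail x (v 0) (v 1) (v 2) 2)

theorem inPlB_iff (x : Pl) (v : W) : inPlB x v = true ↔ inPl x v := by
  simp only [inPlB, inPl, Bool.and_eq_true, decide_eq_true_eq, and_assoc]

theorem tw_basis : ∀ x : Pl,
    inPlB (twPl x) (TW (plVec x (1, 0) 0 0)) = true ∧ inPlB (twPl x) (TW (plVec x 0 (1, 0) 0)) = true ∧
    inPlB (twPl x) (TW (plVec x 0 0 (1, 0))) = true ∧ (x.1.val < 2 ↔ 2 ≤ (twPl x).1.val) := by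
  decide +kernel

theorem inPl_TW {x : Pl} {v : W} (h : inPl x v) : inPl (twPl x) (TW v) := by
  obtain ⟨h1, h2, h3, -⟩ := tw_basis x
  rw [eq_plVec h, plVec_split, TW_add, TW_add, TW_sm, TW_sm, TW_sm]
  exact inPl_add (inPl_add (inPl_sm _ ((inPlB_iff _ _).1 h1)) (inPl_sm _ ((inPlB_iff _ _).1 h2)))
    (inPl_sm _ ((inPlB_iff _ _).1 h3))

/-- The index after a diagonal map. -/
def diagPl (d : Fin 6 → ZMod 3) (x : Pl) : Pl :=
  (x.1, x.2.1 + (d 3 - d 0), x.2.2.1 + (d 4 - d 0), x.2.2.2.1 + (d 3 - d 1), x.2.2.2.2 + (d 3 - d 2))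

theorem diag_exp : ∀ d : Fin 6 → ZMod 3, ∑ i, d i = 0 → ∀ j i : Fin 3,
    (![d 3 - d 0, d 4 - d 0, d 3 - d 1 + (d 3 - d 2) - (d 4 - d 0)] : Fin 3 → ZMod 3) j +
      (![d 3 - d 0, d 3 - d 1, d 3 - d 2] : Fin 3 → ZMod 3) i - (d 3 - d 0) =
      (![d 3, d 4, d 5] : Fin 3 → ZMod 3) j - (![d 0, d 1, d 2] : Fin 3 → ZMod 3) i := by decide +kernel

theorem plExp_diag {d : Fin 6 → ZMod 3} (hd : ∑ i, d i = 0) (x : Pl) (j i : Fin 3) :
    plExp (diagPl d x) j i =
      plExp x j i + ((![d 3, d 4, d 5] : Fin 3 → ZMod 3) j - (![d 0, d 1, d 2] : Fin 3 → ZMod 3) i) := by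
  rw [← diag_exp d hd j i]
  simp only [plExp, diagPl]
  fin_cases j <;> fin_cases i <;> simp <;> ring

theorem inPl_diag {d : Fin 6 → ZMod 3} (hd : ∑ i, d i = 0) {x : Pl} {v : W} (h : inPl x v) :
    inPl (diagPl d x) (mono 1 d v) := by
  have hc : ∀ m p q : ZMod 3, ∀ a : F4, mu (pw (m + (p - q))) (mu (pw q) a) = mu (pw p) (mu (pw m) a) := by
    decide
  have key : ∀ j, plTail (diagPl d x) (mu (pw (d 0)) (v 0)) (mu (pw (d 1)) (v 1)) (mu (pw (d 2)) (v 2)) j =
      mu (pw ((![d 3, d 4, d 5] : Fin 3 → ZMod 3) j)) (plTail x (v 0) (v 1) (v 2) j) := by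
    intro j
    simp only [plTail, mu_add, plExp_diag hd]
    simp only [Matrix.cons_val_zero, Matrix.cons_val_one, Matrix.cons_val_two, Matrix.tail_cons,
      Matrix.head_cons, hc]
  refine ⟨?_, ?_, ?_⟩ <;> simp only [mono_apply] <;>
    first
      | exact ((key 0).trans (congrArg _ h.1.symm)).symm
      | exact ((key 1).trans (congrArg _ h.2.1.symm)).symm
      | exact ((key 2).trans (congrArg _ h.2.2.symm)).symm

/-- Mapping the family into itself. -/
def KeepsPl (g : Equiv.Perm W) : Prop :=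
  ∀ x : Pl, x.1.val < 2 → ∃ y : Pl, y.1.val < 2 ∧ ∀ v, inPl x v → inPl y (g v)

theorem keepsPl_K0 {g : Equiv.Perm W} (hg : g ∈ K0) : KeepsPl g := by
  refine K0_induction (p := KeepsPl) (fun x hx => ⟨x, hx, fun _ h => h⟩) ?_ ?_ hg
  · intro a b ha hb x hx
    obtain ⟨y, hy, e⟩ := hb x hx
    obtain ⟨y', hy', e'⟩ := ha y hy
    exact ⟨y', hy', fun v h => e' _ (e v h)⟩
  · intro d hd
    refine ⟨fun x hx => ⟨diagPl d x, hx, fun _ h => inPl_diag hd h⟩, fun x hx => ?_⟩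
    refine ⟨twPl (diagPl d (twPl x)), ?_, fun v h => inPl_TW (inPl_diag hd (inPl_TW h))⟩
    have h1 : 2 ≤ (diagPl d (twPl x)).1.val := (tw_basis x).2.2.2.1 hx
    have h2 := (tw_basis (diagPl d (twPl x))).2.2.2
    by_contra hn
    have := h2.2 (by omega)
    omega

/-- The exchange of the first two coordinates. -/
def swp : Equiv.Perm W := mono (Equiv.swap 0 1) 0

theorem swp_moves : ∀ y : Pl, y.1.val < 2 →
    inPlB y (swp (plVec (plOf 0) (1, 0) 0 0)) = false ∨ inPlB y (swp (plVec (plOf 0) 0 (1, 0) 0)) = false ∨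
    inPlB y (swp (plVec (plOf 0) 0 0 (1, 0))) = false := by decide +kernel

theorem swp_not_mem : swp ∉ K0 := by
  intro h
  obtain ⟨y, hy, e⟩ := keepsPl_K0 h (plOf 0) (by decide)
  have hb : ∀ a b c : F4, inPl (plOf 0) (plVec (plOf 0) a b c) := fun a b c => ⟨rfl, rfl, rfl⟩
  rcases swp_moves y hy with f | f | f <;>
    exact Bool.eq_false_iff.1 f ((inPlB_iff _ _).2 (e _ (hb _ _ _)))

theorem swp_linear (v : W) : swp (wW v) = wW (swp v) := (isUni_mono _ _).wcomm v

end H67.Fi24J
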