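import Cfsg.Agent.H67.Fi24J.Good
import Cfsg.Agent.H67.Fi24J.Planes

/-!
The kernel of the action on the twenty-seven subspaces: the identity and the exchange of the first two
coordinates, the latter outside the group.
-/

set_option autoImplicit false
set_option maxRecDepth 100000
set_option maxHeartbeats 2000000
set_option synthInstance.maxSize 2000
set_option synthInstance.maxHeartbeats 400000

namespace H67.Fi24J

open H16.Fi24

/-- Four points. -/
def xv : Fin 4 → U :=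
  ![((1, 0), (1, 0), 0, 0), ((1, 0), (0, 1), 0, 0), (0, 0, (1, 0), (1, 0)), (0, 0, (1, 0), (0, 1))]

theorem IsGood.point_image {g : Good} (h : linePerm g = 1) {u : U} (hq : qU u = 0) (hu : u ≠ 0) :
    gU g u = 0 ∨ gU g u = u ∨ gU g u = wU u ∨ gU g u = wU (wU u) := by
  obtain ⟨i, j, hi, hj, hd⟩ := point_fix hq hu
  have e : ∀ k, lineMap g k = k := fun k => congrArg (fun p : Equiv.Perm (Fin 27) => p k) h
  exact hd _ (e i ▸ memU_lineMap g hi) (e j ▸ memU_lineMap g hj)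

theorem exists_factor {a u : U} (h : a = 0 ∨ a = u ∨ a = wU u ∨ a = wU (wU u)) :
    ∃ c : F4, a = smU c u := by
  have e : ∀ u : U, smU 0 u = 0 ∧ smU (1, 0) u = u ∧ smU (1, 1) u = wU (wU u) := by decide +kernel
  rcases h with h | h | h | h
  · exact ⟨0, h.trans (e u).1.symm⟩
  · exact ⟨(1, 0), h.trans (e u).2.1.symm⟩
  · exact ⟨(0, 1), h⟩
  · exact ⟨(1, 1), h.trans (e u).2.2.symm⟩

theorem xv_props : (∀ k, qU (xv k) = 0 ∧ xv k ≠ 0 ∧ lab (sg (xv k)) = 2) ∧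
    qU (xv 0 + xv 2) = 0 ∧ xv 0 + xv 2 ≠ 0 ∧ qU (xv 0 + xv 3) = 0 ∧ xv 0 + xv 3 ≠ 0 ∧
    qU (xv 1 + xv 2) = 0 ∧ xv 1 + xv 2 ≠ 0 ∧
    qU (xv 0 + wU (xv 2)) = 0 ∧ xv 0 + wU (xv 2) ≠ 0 := by decide +kernel

theorem factor_agree : ∀ c₀ c₁ c₂ c₃ : F4,
    c₀ ≠ 0 →
    (∃ c, smU c₀ (xv 0) + smU c₂ (xv 2) = smU c (xv 0 + xv 2)) →
    (∃ c, smU c₀ (xv 0) + smU c₃ (xv 3) = smU c (xv 0 + xv 3)) →
    (∃ c, smU c₁ (xv 1) + smU c₂ (xv 2) = smU c (xv 1 + xv 2)) →
    c₁ = c₀ ∧ c₂ = c₀ ∧ c₃ = c₀ := by decide +kernel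

theorem anti_false : ∀ c c' : F4, c ≠ 0 →
    smU c (xv 0) + wU (wU (smU c (xv 2))) ≠ smU c' (xv 0 + wU (xv 2)) := by decide +kernel

theorem u_expand : ∀ u : U, u =
    smU (u.1 + mu (0, 1) (u.1 + u.2.1)) (xv 0) + smU (mu (0, 1) (u.1 + u.2.1)) (xv 1) +
    (smU (u.2.2.1 + mu (0, 1) (u.2.2.1 + u.2.2.2)) (xv 2) + smU (mu (0, 1) (u.2.2.1 + u.2.2.2)) (xv 3)) := by
  decide +kernel

theorem smU_props : ∀ u : U, smU 0 u = 0 ∧ smU (1, 0) u = u ∧ smU (0, 1) u = wU u ∧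
    smU (1, 1) u = wU (wU u) := by decide +kernel

theorem f4_cases : ∀ a : F4, a = 0 ∨ a = (1, 0) ∨ a = (0, 1) ∨ a = (1, 1) := by decide

theorem smU_wU (c : F4) (u : U) : smU c (wU u) = wU (smU c u) := by
  have h : ∀ c a : F4, mu c (mu (0, 1) a) = mu (0, 1) (mu c a) := by decide
  exact Prod.ext (h _ _) (Prod.ext (h _ _) (Prod.ext (h _ _) (h _ _)))

theorem smU_add (c : F4) (a b : U) : smU c (a + b) = smU c a + smU c b :=
  Prod.ext (mu_add _ _ _) (Prod.ext (mu_add _ _ _) (Prod.ext (mu_add _ _ _) (mu_add _ _ _)))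

theorem smU_zero (c : F4) : smU c 0 = 0 :=
  Prod.ext (mu_zero _) (Prod.ext (mu_zero _) (Prod.ext (mu_zero _) (mu_zero _)))

theorem kernel_scalar {g : Good} (h : linePerm g = 1) :
    (∀ v, (g : Equiv.Perm W) (wW v) = wW ((g : Equiv.Perm W) v)) ∧
      ∃ c : F4, c ≠ 0 ∧ ∀ u, gU g u = smU c u := by
  have hg : IsGood (g : Equiv.Perm W) := g.2
  have hf : ∀ u, qU u = 0 → u ≠ 0 → ∃ c, gU g u = smU c u := fun u hq hu =>
    exists_factor (IsGood.point_image h hq hu)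
  obtain ⟨hx, q02, n02, q03, n03, q12, n12, qw, nw⟩ := xv_props
  choose c hc using fun k => hf (xv k) (hx k).1 (hx k).2.1
  have hc0 : c 0 ≠ 0 := fun e => (hx 0).2.1 (hg.gU_inj (by
    rw [hc, e, (smU_props _).1, hg.gU_zero]))
  obtain ⟨d, hd⟩ := hf _ q02 n02
  obtain ⟨d', hd'⟩ := hf _ q03 n03
  obtain ⟨d'', hd''⟩ := hf _ q12 n12
  rw [hg.gU_add, hc, hc] at hd hd' hd''
  obtain ⟨e1, e2, e3⟩ := factor_agree _ _ _ _ hc0 ⟨d, hd⟩ ⟨d', hd'⟩ ⟨d'', hd''⟩
  have hk : ∀ k, gU g (xv k) = smU (c 0) (xv k) := fun k => by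
    rw [hc]
    fin_cases k
    · rfl
    · exact congrArg (smU · _) e1
    · exact congrArg (smU · _) e2
    · exact congrArg (smU · _) e3
  rcases hg.scal with hl | hl
  · refine ⟨hl, c 0, hc0, fun u => ?_⟩
    have hlin : ∀ a, gU g (wU a) = wU (gU g a) := fun a => by rw [gU, sg_wU, hl]; rfl
    have key : ∀ a k, gU g (smU a (xv k)) = smU (c 0) (smU a (xv k)) := fun a k => by
      obtain ⟨p0, p1, p2, p3⟩ := smU_props (xv k)
      rcases f4_cases a with e | e | e | e <;> rw [e]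
      · rw [p0, hg.gU_zero, smU_zero]
      · rw [p1, hk]
      · rw [p2, hlin, hk, smU_wU]
      · rw [p3, hlin, hlin, hk, smU_wU, smU_wU]
    rw [u_expand u, hg.gU_add, hg.gU_add, hg.gU_add, key, key, key, key, ← smU_add, ← smU_add,
      ← smU_add]
  · exfalso
    have hlin : ∀ a, gU g (wU a) = wU (wU (gU g a)) := fun a => by rw [gU, sg_wU, hl]; rfl
    obtain ⟨d₀, hd₀⟩ := hf _ qw nw
    rw [hg.gU_add, hlin, hk, hk] at hd₀
    exact anti_false _ _ hc0 hd₀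

theorem ones_lab : ∀ c : F4, c ≠ 0 → lab (sg (smU c ((1, 0), (1, 0), (1, 0), (1, 0))) + cv (1, 0)) = 2 →
    c = (1, 0) := by decide +kernel

theorem lab_lift : ∀ c a : F4, ∀ k, c ≠ 0 → lab (sg (smU c (xv k)) + cv a) = 2 → a = 0 := by
  decide +kernel

/-- The first basis vector. -/
def e₀ : W := ![(1, 0), 0, 0, 0, 0, 0]

/-- The second basis vector. -/
def e₁ : W := ![0, (1, 0), 0, 0, 0, 0]

theorem e0_image : ∀ y : W, qf y = 1 → (∀ k, Bf (sg (xv k)) y = 0 ∧ Bf (wW (sg (xv k))) y = 0) →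
    Bf (rep 2) y = Bf (rep 2) e₀ → Bf (wW (rep 2)) y = Bf (wW (rep 2)) e₀ → y = e₀ ∨ y = e₁ :=
  forall_W (by decide +kernel)

theorem kernel_cases {g : Good} (h : linePerm g = 1) :
    (g : Equiv.Perm W) = 1 ∨ (g : Equiv.Perm W) = swp := by
  have hg : IsGood (g : Equiv.Perm W) := g.2
  obtain ⟨hl, c, hc, hu⟩ := kernel_scalar h
  set f : Equiv.Perm W := (g : Equiv.Perm W)
  have hx : ∀ k, f (sg (xv k)) = sg (smU c (xv k)) := fun k => by
    have e := decomp_perp _ (hg.perp (sg_perp (xv k)))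
    rw [show pr (f (sg (xv k))) = smU c (xv k) from hu _] at e
    have h2 := hg.lb (sg (xv k))
    rw [(xv_props.1 k).2.2, e] at h2
    rw [e, lab_lift c _ k hc h2]
    rw [show cv 0 = 0 from funext fun i => by fin_cases i <;> rfl, add_zero]
  have hlift : ∀ u, f (sg u) = sg (smU c u) := fun u => by
    have key : ∀ a k, f (sg (smU a (xv k))) = sg (smU c (smU a (xv k))) := fun a k => by
      obtain ⟨p0, p1, p2, p3⟩ := smU_props (xv k)
      rcases f4_cases a with e | e | e | e <;> rw [e]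
      · rw [p0, smU_zero, sg_zero, hg.zero]
      · rw [p1, hx]
      · rw [p2, sg_wU, hl, hx, smU_wU, sg_wU]
      · rw [p3, sg_wU, sg_wU, hl, hl, hx, smU_wU, smU_wU, sg_wU, sg_wU]
    rw [u_expand u, sg_add, sg_add, sg_add, hg.add, hg.add, hg.add, key, key, key, key, ← sg_add,
      ← sg_add, ← sg_add, ← smU_add, ← smU_add, ← smU_add]
  have hc1 : c = (1, 0) := by
    refine ones_lab c hc ?_
    have e : f (sg ((1, 0), (1, 0), (1, 0), (1, 0)) + cv (1, 0)) =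
        sg (smU c ((1, 0), (1, 0), (1, 0), (1, 0))) + cv (1, 0) := by
      rw [hg.add, hlift, cv_one, hg.fix]
    rw [← e, hg.lb]
    decide
  subst hc1
  have hsg : ∀ u, f (sg u) = sg u := fun u => by rw [hlift, (smU_props u).2.1]
  have hcv : ∀ a, f (cv a) = cv a := fun a => by
    rcases cv_cases a with e | e | e | e <;> rw [e]
    · exact hg.zero
    · exact hg.fix
    · rw [hl, hg.fix]
    · rw [hl, hl, hg.fix]
  have hperp : ∀ x : W, x 0 = x 1 → f x = x := fun x hx => by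
    rw [decomp_perp x hx, hg.add, hsg, hcv]
  have he0 : f e₀ = e₀ ∨ f e₀ = e₁ := by
    refine e0_image _ (by rw [hg.q]; decide) (fun k => ⟨?_, ?_⟩) ?_ ?_
    · rw [← hsg (xv k), hg.Bf_map]; revert k; decide +kernel
    · rw [← hsg (xv k), ← hl, hg.Bf_map]; revert k; decide +kernel
    · rw [← hg.fix, hg.Bf_map, hg.fix]
    · conv_lhs => rw [← hg.fix, ← hl, hg.Bf_map]
  have hsm : ∀ a, f (sm a e₀) = sm a (f e₀) := fun a => by
    have p : ∀ v : W, sm 0 v = 0 ∧ sm (1, 0) v = v ∧ sm (0, 1) v = wW v ∧ sm (1, 1) v = wW (wW v) :=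
      fun v => by
        have q : ∀ b : F4, mu 0 b = 0 ∧ mu (1, 0) b = b ∧ mu (1, 1) b = mu (0, 1) (mu (0, 1) b) := by
          decide
        exact ⟨funext fun i => (q _).1, funext fun i => (q _).2.1, rfl, funext fun i => (q _).2.2⟩
    rcases f4_cases a with e | e | e | e <;> rw [e]
    · rw [(p _).1, (p _).1, hg.zero]
    · rw [(p _).2.1, (p _).2.1]
    · rw [(p _).2.2.1, (p _).2.2.1, hl]
    · rw [(p _).2.2.2, (p _).2.2.2, hl, hl]
  have split : ∀ x : W, sm (x 0 + x 1) e₀ + (x + sm (x 0 + x 1) e₀) = x ∧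
      (x + sm (x 0 + x 1) e₀) 0 = (x + sm (x 0 + x 1) e₀) 1 ∧
      sm (x 0 + x 1) e₁ + (x + sm (x 0 + x 1) e₀) = swp x := fun x => by
    have q : ∀ a b : F4, (mu (a + b) (1, 0) + (a + mu (a + b) (1, 0)) = a) ∧
        a + mu (a + b) (1, 0) = b + mu (a + b) 0 ∧
        mu (a + b) 0 + (a + mu (a + b) (1, 0)) = b ∧ mu (a + b) (1, 0) + (b + mu (a + b) 0) = a ∧
        mu (a + b) 0 + (b + mu (a + b) 0) = b := by decide
    obtain ⟨q1, q2, q3, q4, q5⟩ := q (x 0) (x 1)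
    have q0 : ∀ c d : F4, mu c 0 + (d + mu c 0) = d := by decide
    refine ⟨funext fun i => ?_, q2, funext fun i => ?_⟩
    · fin_cases i
      · exact q1
      · exact q5
      all_goals exact q0 _ _
    · show _ = mu (pw 0) (x ((Equiv.swap 0 1).symm i))
      rw [pw_zero, mu_one]
      fin_cases i
      · exact q3
      · exact q4
      all_goals exact q0 _ _
  have main : ∀ x, f x = sm (x 0 + x 1) (f e₀) + (x + sm (x 0 + x 1) e₀) := fun x => by
    conv_lhs => rw [← (split x).1]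
    rw [hg.add, hsm, hperp _ (split x).2.1]
  rcases he0 with e | e
  · exact Or.inl (Equiv.ext fun x => by rw [main x, e, (split x).1]; rfl)
  · exact Or.inr (Equiv.ext fun x => by rw [main x, e, (split x).2.2])

end H67.Fi24J
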