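import Cfsg.Agent.H67.Fi24J.Stab
import Cfsg.Agent.H16.Fi24.Class

/-!
An involution of the normal subgroup that is no conjugate of the central one has label two.
-/

set_option autoImplicit false

namespace H67.Fi24J

open H16.Fi24

universe u

variable {G : Type u} [Group G] [Finite G] {z : G} {Q : Subgroup (Subgroup.centralizer ({z} : Set G))}
  [Q.Normal]

theorem lab_two_of_not_conj (hF : Cfsg.IsOfLargeFischerTypeAt z Q) (D : Model z Q)
    {t : Subgroup.centralizer ({z} : Set G)} (htQ : t ∈ Q) (ht2 : orderOf t = 2)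
    (ht : ¬ IsConj z (t : G)) : lab (D.Φ t) = 2 := by
  have hne : (t : G) ≠ z := fun e => ht (by rw [e])
  have h1 := D.lab_involution htQ ht2 hne
  have h2 := (lab_cases (D.Φ t)).2.1
  have h3 : lab (D.Φ t) ≠ 3 := fun e => ht ((isConj_iff_lab hF D htQ hne).2 e)
  omega

end H67.Fi24J
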