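import Cfsg.Agent.H16.Fi24.Model

/-!
The twenty-seven maximal isotropic subspaces of the four-dimensional hermitian space over the field
with four elements, coded by natural numbers below 256.
-/

set_option autoImplicit false
set_option maxRecDepth 100000

namespace H67.Fi24J

open H16.Fi24

/-- The four-dimensional space. -/
abbrev U : Type := F4 × F4 × F4 × F4

def maskList : List ℕ :=
  [0x8421000000000000000084210000000000000000842100000000000000008421,
   0x84210000842100000000000000008421000000000000000000008421,
   0x842100000000000000008421000084210000000000000000000000008421,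
   0x2841000000000000000028410000000000000000284100000000000000002841,
   0x28410000284100000000000000002841000000000000000000002841,
   0x284100000000000000002841000028410000000000000000000000002841,
   0x4281000000000000000042810000000000000000428100000000000000004281,
   0x42810000428100000000000000004281000000000000000000004281,
   0x428100000000000000004281000042810000000000000000000000004281,
   0x8000400020001000080004000200010000800040002000100008000400020001,
   0x80004000200010800040002000100008000400020001000008000400020001,
   0x800040002000100008000400020001080004000200010000008000400020001,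
   0x2000800040001000020008000400010000200080004000100002000800040001,
   0x20008000400010200080004000100002000800040001000002000800040001,
   0x200080004000100002000800040001020008000400010000002000800040001,
   0x4000200080001000040002000800010000400020008000100004000200080001,
   0x40002000800010400020008000100004000200080001000004000200080001,
   0x400020008000100004000200080001040002000800010000004000200080001,
   0x8000080000800008400004000040000420000200002000021000010000100001,
   0x2000020000200002800008000080000840000400004000041000010000100001,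
   0x4000040000400004200002000020000280000800008000081000010000100001,
   0x80800008000008004040000400000400202000020000020010100001000001,
   0x20200002000002008080000800000800404000040000040010100001000001,
   0x40400004000004002020000200000200808000080000080010100001000001,
   0x800008080000008040000404000000402000020200000020100001010000001,
   0x200002020000002080000808000000804000040400000040100001010000001,
   0x400004040000004020000202000000208000080800000080100001010000001]

def genList : List (ℕ × ℕ) :=
  [(80, 5), (208, 5), (144, 5), (80, 13), (208, 13), (144, 13), (80, 9), (208, 9), (144, 9), (68, 17), (196, 17), (132, 17), (68, 49), (196, 49), (132, 49), (68, 33), (196, 33), (132, 33), (20, 65), (20, 193), (20, 129), (52, 65), (52, 193), (52, 129), (36, 65), (36, 193), (36, 129)]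

def vecList : List ℕ :=
  [8, 4, 12, 1, 2, 3, 9, 6, 15, 37, 30, 59, 27, 53, 46, 62, 43, 21, 45, 26, 55, 23, 61, 42, 58, 39, 29]

def baseList : List (Fin 27) :=
  [0, 1, 3, 4, 9, 10]

def coeffList : List ℕ :=
  [1, 2, 3, 4, 8, 12, 5, 10, 15, 16, 32, 48, 38, 59, 29, 54, 27, 45, 17, 34, 51, 37, 58, 31, 52, 24, 44]

def invList : List ℕ :=
  [24, 52, 33, 18, 32, 16]

/-- The code of a scalar. -/
def fc (a : F4) : ℕ := a.1.val + 2 * a.2.val

/-- The code of a pair. -/
def hc (p : F4 × F4) : ℕ := fc p.1 + 4 * fc p.2

/-- The code of a vector. -/
def cd (u : U) : ℕ := hc (u.1, u.2.1) + 16 * hc u.2.2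

/-- The form on codes. -/
def qC (c : ℕ) : ℕ :=
  let m := (c ||| c >>> 1) &&& 85
  ((m ^^^ m >>> 2) ^^^ (m >>> 4 ^^^ m >>> 6)) &&& 1

/-- Multiplication by the cube root of unity on codes. -/
def wC (d : ℕ) : ℕ := ((d >>> 1) &&& 85) ||| (((d ^^^ (d >>> 1)) &&& 85) <<< 1)

/-- The polarisation on codes. -/
def bC (c d : ℕ) : ℕ := qC (c ^^^ d) ^^^ qC c ^^^ qC d

/-- Orthogonality on codes. -/
def orC (c d : ℕ) : Bool := Nat.beq (bC c d) 0 && Nat.beq (bC c (wC d)) 0

/-- Multiples of a code. -/
def mulC (c d : ℕ) : Bool := Nat.beq d 0 || Nat.beq d c || Nat.beq d (wC c) || Nat.beq d (wC (wC c))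

/-- Membership of a code in a subspace of the list. -/
def memC (i c : ℕ) : Bool := Nat.beq ((maskList.getD i 0 >>> c) &&& 1) 1

/-- The sixteen combinations of the two generators. -/
def comb (i k : ℕ) : ℕ :=
  let a := (genList.getD i (0, 0)).1
  let b := (genList.getD i (0, 0)).2
  ((k &&& 1) * a) ^^^ (((k >>> 1) &&& 1) * wC a) ^^^ (((k >>> 2) &&& 1) * b) ^^^
    (((k >>> 3) &&& 1) * wC b)

/-- Two subspaces share a non-zero vector. -/
def meetC (i j : ℕ) : Bool := (List.range 15).any fun k => memC j (comb i (k + 1))

theorem cd_lt : ∀ u : U, cd u < 256 := by decide +kernel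

/-- The vector of a code. -/
def dc (c : ℕ) : U :=
  (((c : ZMod 2), ((c / 2 : ℕ) : ZMod 2)), (((c / 4 : ℕ) : ZMod 2), ((c / 8 : ℕ) : ZMod 2)),
    (((c / 16 : ℕ) : ZMod 2), ((c / 32 : ℕ) : ZMod 2)), (((c / 64 : ℕ) : ZMod 2), ((c / 128 : ℕ) : ZMod 2)))

theorem dc_cd : ∀ u : U, dc (cd u) = u := by decide +kernel

theorem cd_dc : ∀ c : Fin 256, cd (dc c.val) = c.val := by decide +kernel

theorem hc_add : ∀ p r : F4 × F4, hc (p + r) = hc p ^^^ hc r ∧ hc p < 16 := by decide +kernel

theorem cd_add (u v : U) : cd (u + v) = cd u ^^^ cd v := by
  have e : ∀ w : U, cd w % 2 ^ 4 = hc (w.1, w.2.1) ∧ cd w / 2 ^ 4 = hc w.2.2 := fun w => by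
    have := (hc_add (w.1, w.2.1) 0).2
    unfold cd
    omega
  rw [← Nat.mod_add_div (cd u ^^^ cd v) (2 ^ 4), Nat.xor_mod_two_pow, Nat.xor_div_two_pow, (e u).1,
    (e u).2, (e v).1, (e v).2, ← (hc_add _ _).1, ← (hc_add _ _).1]
  rfl

theorem cd_injective : Function.Injective cd := fun u v h => by
  rw [← dc_cd u, h, dc_cd v]

theorem mem_iff : ∀ i : Fin 27, ∀ c : Fin 256,
    memC i.val c.val = (List.range 16).any fun k => Nat.beq c.val (comb i.val k) := by decide +kernel

theorem comb_closed : ∀ i : Fin 27, ∀ k l : Fin 16, memC i.val (comb i.val k.val ^^^ comb i.val l.val) = true ∧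
    memC i.val (wC (comb i.val k.val)) = true ∧ comb i.val k.val < 256 := by decide +kernel

theorem gens_ok : ∀ i : Fin 27, memC i.val (genList.getD i.val (0, 0)).1 = true ∧
    memC i.val (genList.getD i.val (0, 0)).2 = true ∧ qC (genList.getD i.val (0, 0)).1 = 0 ∧
    qC (genList.getD i.val (0, 0)).2 = 0 ∧
    orC (genList.getD i.val (0, 0)).1 (genList.getD i.val (0, 0)).2 = true ∧
    mulC (genList.getD i.val (0, 0)).1 (genList.getD i.val (0, 0)).2 = false ∧
    (genList.getD i.val (0, 0)).1 ≠ 0 := by decide +kernel

theorem gens_unique : ∀ i j : Fin 27, memC i.val (genList.getD j.val (0, 0)).1 = true →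
    memC i.val (genList.getD j.val (0, 0)).2 = true → i = j := by decide +kernel

theorem pair_cover : ((List.range 256).all fun c => (List.range 256).all fun d =>
    !(Nat.beq (qC c) 0 && Nat.beq (qC d) 0 && orC c d && !Nat.beq c 0 && !mulC c d) ||
      (List.range 27).any fun i => memC i c && memC i d) = true := by decide +kernel

theorem point_inter : ((List.range 256).all fun c => !(Nat.beq (qC c) 0 && !Nat.beq c 0) ||
    match (List.range 27).filter fun i => memC i c with
    | i :: j :: _ => (List.range 256).all fun d => !(memC i d && memC j d) || mulC c d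
    | _ => false) = true := by decide +kernel

end H67.Fi24J
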