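import Cfsg.Agent.H67.Fi24J.Iso

/-!
The section orthogonal to the representative of the first class of singular vectors, modulo its line, as the
coded four-dimensional space.
-/

set_option autoImplicit false
set_option maxRecDepth 100000

namespace H67.Fi24J

open H16.Fi24

/-- Scalar multiples in four dimensions. -/
def smU (c : F4) (u : U) : U := (mu c u.1, mu c u.2.1, mu c u.2.2.1, mu c u.2.2.2)

/-- The cube root of unity in four dimensions. -/
def wU (u : U) : U := smU (0, 1) u

/-- The section. -/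
def sg (u : U) : W := ![0, 0, u.1, u.2.1, u.2.2.1, u.2.2.2]

/-- The projection. -/
def pr (x : W) : U := (x 2, x 3, x 4, x 5)

/-- The multiples of the representative. -/
def cv (c : F4) : W := ![c, c, 0, 0, 0, 0]

/-- The form. -/
def qU (u : U) : ZMod 2 := qf (sg u)

/-- The polarisation. -/
def BU (a b : U) : ZMod 2 := qU (a + b) + qU a + qU b

/-- Orthogonality. -/
def OU (a b : U) : Prop := BU a b = 0 ∧ BU a (wU b) = 0

/-- Membership in a subspace of the list. -/
def memU (i : Fin 27) (u : U) : Prop := memC i.val (cd u) = true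

theorem qC_cd : ∀ u : U, qC (cd u) = (qU u).val := by decide +kernel

theorem wC_cd : ∀ u : U, wC (cd u) = cd (wU u) := by decide +kernel

theorem cd_zero : cd 0 = 0 := rfl

theorem wU_two : ∀ u : U, wU (wU u) = wU u + u := by decide +kernel

theorem wU_three : ∀ u : U, wU (wU (wU u)) = u := by decide +kernel

theorem wW_two (v : W) : wW (wW v) = wW v + v := funext fun i => by
  have h : ∀ a : F4, mu (0, 1) (mu (0, 1) a) = mu (0, 1) a + a := by decide
  exact h _

theorem wW_three (v : W) : wW (wW (wW v)) = v := funext fun i => by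
  have h : ∀ a : F4, mu (0, 1) (mu (0, 1) (mu (0, 1) a)) = a := by decide
  exact h _

theorem wW_add (u v : W) : wW (u + v) = wW u + wW v := funext fun _ => mu_add _ _ _

theorem wU_add (a b : U) : wU (a + b) = wU a + wU b :=
  Prod.ext (mu_add _ _ _) (Prod.ext (mu_add _ _ _) (Prod.ext (mu_add _ _ _) (mu_add _ _ _)))

theorem sg_add (a b : U) : sg (a + b) = sg a + sg b := funext fun i => by
  fin_cases i <;> rfl

theorem sg_zero : sg 0 = 0 := funext fun i => by fin_cases i <;> rfl

theorem sg_wU (u : U) : sg (wU u) = wW (sg u) := funext fun i => by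
  fin_cases i <;> rfl

theorem pr_sg (u : U) : pr (sg u) = u := rfl

theorem pr_add (x y : W) : pr (x + y) = pr x + pr y := rfl

theorem pr_wW (x : W) : pr (wW x) = wU (pr x) := rfl

theorem pr_cv (c : F4) : pr (cv c) = 0 := rfl

theorem cv_one : cv (1, 0) = rep 2 := funext fun i => by fin_cases i <;> rfl

theorem cv_cases : ∀ c : F4, cv c = 0 ∨ cv c = rep 2 ∨ cv c = wW (rep 2) ∨ cv c = wW (wW (rep 2)) := by
  decide +kernel

theorem decomp_perp (x : W) (h : x 0 = x 1) : x = sg (pr x) + cv (x 0) := funext fun i => by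
  fin_cases i
  · exact (zero_add _).symm
  · exact h.symm.trans (zero_add _).symm
  all_goals exact (add_zero _).symm

theorem perp_iff : ∀ x : W, x 0 = x 1 ↔ Bf (rep 2) x = 0 ∧ Bf (rep 2) (wW x) = 0 :=
  forall_W (by decide +kernel)

theorem qf_pr : ∀ x : W, x 0 = x 1 → qf x = qU (pr x) := forall_W (by decide +kernel)

theorem BU_eq (a b : U) : BU a b = Bf (sg a) (sg b) := by
  rw [BU, Bf, qU, qU, qU, sg_add]

theorem bC_cd (a b : U) : bC (cd a) (cd b) = (BU a b).val := by
  rw [bC, ← cd_add, qC_cd, qC_cd, qC_cd, BU]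
  generalize qU (a + b) = x
  generalize qU a = y
  generalize qU b = z
  revert x y z
  decide

theorem orC_cd (a b : U) : orC (cd a) (cd b) = true ↔ OU a b := by
  rw [orC, Bool.and_eq_true, Nat.beq_eq, Nat.beq_eq, wC_cd, bC_cd, bC_cd, ZMod.val_eq_zero,
    ZMod.val_eq_zero]
  rfl

theorem qC_eq_zero (u : U) : qC (cd u) = 0 ↔ qU u = 0 := by rw [qC_cd, ZMod.val_eq_zero]

theorem mulC_cd (a b : U) : mulC (cd a) (cd b) = true ↔ b = 0 ∨ b = a ∨ b = wU a ∨ b = wU (wU a) := by
  simp only [mulC, Bool.or_eq_true, Nat.beq_eq, wC_cd]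
  have e : ∀ c, cd b = cd c ↔ b = c := fun c => cd_injective.eq_iff
  rw [← cd_zero, e, e, e, e]
  tauto

/-- The combinations of the generators. -/
def combU (i : Fin 27) (k : ℕ) : U :=
  (if k % 2 = 1 then dc (genList.getD i.val (0, 0)).1 else 0) +
  (if k / 2 % 2 = 1 then wU (dc (genList.getD i.val (0, 0)).1) else 0) +
  (if k / 4 % 2 = 1 then dc (genList.getD i.val (0, 0)).2 else 0) +
  (if k / 8 % 2 = 1 then wU (dc (genList.getD i.val (0, 0)).2) else 0)

/-- The first generator. -/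
def gA (i : Fin 27) : U := dc (genList.getD i.val (0, 0)).1

/-- The second generator. -/
def gB (i : Fin 27) : U := dc (genList.getD i.val (0, 0)).2

theorem cd_combU : ∀ i : Fin 27, ∀ k : Fin 16, cd (combU i k.val) = comb i.val k.val := by
  decide +kernel

theorem cd_gen : ∀ i : Fin 27,
    cd (gA i) = (genList.getD i.val (0, 0)).1 ∧ cd (gB i) = (genList.getD i.val (0, 0)).2 := by
  decide +kernel

theorem memU_iff (i : Fin 27) (u : U) : memU i u ↔ ∃ k : Fin 16, u = combU i k.val := by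
  rw [memU, mem_iff i ⟨cd u, cd_lt u⟩]
  simp only [List.any_eq_true, List.mem_range, Nat.beq_eq]
  constructor
  · rintro ⟨k, hk, e⟩
    exact ⟨⟨k, hk⟩, cd_injective (e.trans (cd_combU i ⟨k, hk⟩).symm)⟩
  · rintro ⟨k, rfl⟩
    exact ⟨k.val, k.isLt, cd_combU i k⟩

theorem memU_zero (i : Fin 27) : memU i 0 := (memU_iff i 0).2 ⟨0, rfl⟩

theorem memU_add {i : Fin 27} {a b : U} (ha : memU i a) (hb : memU i b) : memU i (a + b) := by
  obtain ⟨k, rfl⟩ := (memU_iff i a).1 ha
  obtain ⟨l, rfl⟩ := (memU_iff i b).1 hb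
  rw [memU, cd_add, cd_combU, cd_combU]
  exact (comb_closed i k l).1

theorem memU_wU {i : Fin 27} {a : U} (ha : memU i a) : memU i (wU a) := by
  obtain ⟨k, rfl⟩ := (memU_iff i a).1 ha
  rw [memU, ← wC_cd, cd_combU]
  exact (comb_closed i k k).2.1

theorem memU_gA (i : Fin 27) : memU i (gA i) := by rw [memU, (cd_gen i).1]; exact (gens_ok i).1

theorem memU_gB (i : Fin 27) : memU i (gB i) := by rw [memU, (cd_gen i).2]; exact (gens_ok i).2.1

theorem memU_ind {i : Fin 27} {p : U → Prop} (h0 : p 0) (hadd : ∀ a b, p a → p b → p (a + b))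
    (hA : p (gA i)) (hA' : p (wU (gA i))) (hB : p (gB i)) (hB' : p (wU (gB i))) {u : U}
    (hu : memU i u) : p u := by
  obtain ⟨k, rfl⟩ := (memU_iff i u).1 hu
  have h : ∀ (c : Prop) [Decidable c] (a : U), p a → p (if c then a else 0) := fun c _ a ha => by
    split <;> assumption
  exact hadd _ _ (hadd _ _ (hadd _ _ (h _ _ hA) (h _ _ hA')) (h _ _ hB)) (h _ _ hB')

theorem cover {a b : U} (qa : qU a = 0) (qb : qU b = 0) (o : OU a b) (ha : a ≠ 0)
    (hb : ¬ (b = 0 ∨ b = a ∨ b = wU a ∨ b = wU (wU a))) : ∃ i, memU i a ∧ memU i b := by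
  have h := (List.all_eq_true.1 ((List.all_eq_true.1 pair_cover) (cd a)
    (List.mem_range.2 (cd_lt a)))) (cd b) (List.mem_range.2 (cd_lt b))
  have h1 : Nat.beq (qC (cd a)) 0 = true := by rw [Nat.beq_eq]; exact (qC_eq_zero a).2 qa
  have h2 : Nat.beq (qC (cd b)) 0 = true := by rw [Nat.beq_eq]; exact (qC_eq_zero b).2 qb
  have h3 : Nat.beq (cd a) 0 = false := Bool.eq_false_iff.2 fun e =>
    ha (cd_injective ((Nat.eq_of_beq_eq_true e).trans cd_zero.symm))
  have h4 : mulC (cd a) (cd b) = false := Bool.eq_false_iff.2 fun e => hb ((mulC_cd a b).1 e)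
  simp only [h1, h2, (orC_cd a b).2 o, h3, h4, Bool.not_false, Bool.and_true, Bool.not_true,
    Bool.false_or, List.any_eq_true, List.mem_range, Bool.and_eq_true] at h
  obtain ⟨i, hi, hm⟩ := h
  exact ⟨⟨i, hi⟩, hm⟩

theorem lines_meet : ∀ i j : Fin 27, i = j ∨ ∀ k : Fin 16,
    memC j.val (comb i.val k.val) = false ∨ k = 0 ∨ ∀ l : Fin 16,
      memC j.val (comb i.val l.val) = false ∨ mulC (comb i.val k.val) (comb i.val l.val) = true := by
  decide +kernel

theorem line_unique {i j : Fin 27} {a b : U} (ha : memU i a) (hb : memU i b) (ha' : memU j a)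
    (hb' : memU j b) (hne : a ≠ 0) (hm : ¬ (b = 0 ∨ b = a ∨ b = wU a ∨ b = wU (wU a))) : i = j := by
  obtain ⟨k, rfl⟩ := (memU_iff i a).1 ha
  obtain ⟨l, rfl⟩ := (memU_iff i b).1 hb
  rw [← mulC_cd, cd_combU, cd_combU] at hm
  rw [memU, cd_combU] at ha' hb'
  rcases lines_meet i j with e | e
  · exact e
  · rcases e k with e | e | e
    · exact absurd ha' (Bool.eq_false_iff.1 e)
    · exact absurd (by rw [e]; rfl) hne
    · exact ((e l).elim (fun e => Bool.eq_false_iff.1 e hb') hm).elim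

theorem meetC_iff (i j : Fin 27) :
    meetC i.val j.val = true ↔ ∃ u : U, u ≠ 0 ∧ memU i u ∧ memU j u := by
  have hnz : ∀ i : Fin 27, ∀ k : Fin 15, comb i.val (k.val + 1) ≠ 0 := by decide +kernel
  simp only [meetC, List.any_eq_true, List.mem_range]
  constructor
  · rintro ⟨k, hk, h⟩
    refine ⟨combU i (k + 1), fun e => hnz i ⟨k, hk⟩ ?_,
      (memU_iff i _).2 ⟨⟨k + 1, by omega⟩, rfl⟩, ?_⟩
    · rw [← cd_combU i ⟨k + 1, by omega⟩, e, cd_zero]
    · rw [memU, cd_combU i ⟨k + 1, by omega⟩]; exact h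
  · rintro ⟨u, hu, hi, hj⟩
    obtain ⟨⟨k, hk⟩, rfl⟩ := (memU_iff i u).1 hi
    rw [memU, cd_combU i ⟨k, hk⟩] at hj
    rcases k with _ | k
    · exact absurd (show combU i 0 = 0 from rfl) hu
    · exact ⟨k, by omega, hj⟩

theorem P6_meet : ∀ i j : Fin 27, P6 (sv i) (sv j) = 0 ↔ (i = j ∨ meetC i.val j.val = true) := by
  decide +kernel

theorem point_fix {u : U} (hq : qU u = 0) (hu : u ≠ 0) :
    ∃ i j : Fin 27, memU i u ∧ memU j u ∧
      ∀ d : U, memU i d → memU j d → d = 0 ∨ d = u ∨ d = wU u ∨ d = wU (wU u) := by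
  have h := List.all_eq_true.1 point_inter (cd u) (List.mem_range.2 (cd_lt u))
  have h1 : Nat.beq (qC (cd u)) 0 = true := by rw [Nat.beq_eq]; exact (qC_eq_zero u).2 hq
  have h3 : Nat.beq (cd u) 0 = false := Bool.eq_false_iff.2 fun e =>
    hu (cd_injective ((Nat.eq_of_beq_eq_true e).trans cd_zero.symm))
  simp only [h1, h3, Bool.not_false, Bool.and_true, Bool.not_true, Bool.false_or] at h
  rcases hl : (List.range 27).filter fun i => memC i (cd u) with _ | ⟨i, _ | ⟨j, rest⟩⟩
  · rw [hl] at h; exact absurd h Bool.false_ne_true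
  · rw [hl] at h; exact absurd h Bool.false_ne_true
  rw [hl] at h
  simp only [List.all_eq_true, List.mem_range] at h
  have hi : i ∈ (List.range 27).filter fun i => memC i (cd u) := by rw [hl]; simp
  have hj : j ∈ (List.range 27).filter fun i => memC i (cd u) := by rw [hl]; simp
  rw [List.mem_filter, List.mem_range] at hi hj
  refine ⟨⟨i, hi.1⟩, ⟨j, hj.1⟩, hi.2, hj.2, fun d hdi hdj => (mulC_cd u d).1 ?_⟩
  have hd := h (cd d) (cd_lt d)
  simpa [show memC i (cd d) = true from hdi, show memC j (cd d) = true from hdj] using hd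

end H67.Fi24J
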