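import Cfsg.Agent.H67.Fi24J.Kernel
import Cfsg.Agent.H20.AutPSU4Two

/-!
The stabiliser of a vector of the first class of singular vectors in the group induced on the model.
-/

set_option autoImplicit false
set_option maxRecDepth 100000

namespace H67.Fi24J

open H16.Fi24

universe u

variable {G : Type u} [Group G] {z : G} {Q : Subgroup (Subgroup.centralizer ({z} : Set G))}

/-- The image of the centralizer stabilising a vector. -/
def imageStab (D : Model z Q) (w : W) : Subgroup (Equiv.Perm W) :=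
  D.ρ.range ⊓ MulAction.stabilizer (Equiv.Perm W) w

theorem mem_imageStab {D : Model z Q} {w : W} {r : Equiv.Perm W} :
    r ∈ imageStab D w ↔ (∃ h, D.ρ h = r) ∧ r w = w := Iff.rfl

theorem card_range (D : Model z Q) : Nat.card D.ρ.range = 19595520 := by
  have h1 : Q.relIndex D.M = 9797760 := by
    have e : D.M.map D.ρ = (D.ρ.comp D.M.subtype).range := by
      rw [MonoidHom.range_comp, Subgroup.range_subtype]
    rw [← D.card_K0, ← D.map_M, e, ← Subgroup.index_ker, ← MonoidHom.comap_ker, D.ker]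
    rfl
  rw [← Subgroup.index_ker, D.ker, ← Subgroup.relIndex_mul_index D.Q_le, h1, D.index_M]

theorem card_imageStab [Q.Normal] (D : Model z Q) {w : W} (hw : lab w = 2) :
    Nat.card (imageStab D w) = 51840 := by
  have horb : MulAction.orbit D.ρ.range w = {u | lab u = lab w} := by
    ext u
    refine ⟨?_, fun hu => ?_⟩
    · rintro ⟨⟨r, h, rfl⟩, e⟩
      exact e ▸ D.rho_lab h w
    · obtain ⟨g, hg, e⟩ := exists_of_lab (v := w) (u := u) (by omega) hu
      obtain ⟨h, -, rfl⟩ := D.exists_rho hg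
      exact ⟨⟨_, h, rfl⟩, e⟩
  have hst : MulAction.stabilizer D.ρ.range w = (imageStab D w).subgroupOf D.ρ.range := by
    ext r
    exact ⟨fun e => ⟨r.2, e⟩, fun e => e.2⟩
  have h2 := (MulAction.stabilizer D.ρ.range w).card_mul_index
  rw [MulAction.index_stabilizer, card_range, horb, hst,
    Nat.card_congr (Subgroup.subgroupOfEquivOfLe
      (show imageStab D w ≤ D.ρ.range from inf_le_left)).toEquiv] at h2
  have hn : Set.ncard {u : W | lab u = lab w} = 378 := by
    rw [Set.ncard_eq_toFinset_card', hw, ← card_lab_two]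
    exact congrArg _ (Finset.ext fun _ => by simp)
  rw [hn] at h2
  omega

theorem isometry_of_imageStab [Q.Normal] (D : Model z Q)
    (anti : ∀ h, h ∉ D.M → ∀ v, D.ρ h (wW v) = wW (wW (D.ρ h v))) {w : W} (hw : lab w = 2) :
    Nonempty (imageStab D w ≃* Cfsg.isometryGroup (ZMod 2) form6) := by
  obtain ⟨k, hk, hkw⟩ := exists_of_lab (v := rep 2) (u := w) (by decide) (hw.trans (by decide))
  obtain ⟨a, -, rfl⟩ := D.exists_rho hk
  have hmem : ∀ r : imageStab D w, (D.ρ a)⁻¹ * (r : Equiv.Perm W) * D.ρ a ∈ Good := by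
    rintro ⟨r, ⟨h, rfl⟩, hfix⟩
    have hfix' : D.ρ h w = w := hfix
    show IsGood ((D.ρ a)⁻¹ * D.ρ h * D.ρ a)
    rw [← map_inv, ← map_mul, ← map_mul]
    refine ⟨D.rho_add _, D.scal _, D.rho_qf _, D.rho_lab _, ?_⟩
    rw [map_mul, map_mul, map_inv, Equiv.Perm.mul_apply, Equiv.Perm.mul_apply, hkw, hfix', ← hkw]
    exact (D.ρ a).symm_apply_apply _
  let conjHom : imageStab D w →* Good :=
    ((MulAut.conj (D.ρ a)⁻¹).toMonoidHom.comp (imageStab D w).subtype).codRestrict Good
      fun r => by simpa using hmem r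
  have hcinj : Function.Injective conjHom := fun r s e =>
    Subtype.ext ((MulAut.conj (D.ρ a)⁻¹).injective (congrArg Subtype.val e))
  let φ := goodHom.comp conjHom
  have hφ : Function.Injective φ := by
    rw [injective_iff_map_eq_one]
    intro r hr
    refine hcinj (Subtype.ext ?_)
    rw [_root_.map_one]
    rcases kernel_cases (g := conjHom r) (linePerm_of_goodHom hr) with e | e
    · exact e
    · exfalso
      obtain ⟨h, hh⟩ := r.2.1
      have e' : D.ρ (a⁻¹ * h * a) = swp := by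
        rw [map_mul, map_mul, map_inv, hh, ← e]
        show _ = (D.ρ a)⁻¹ * (r : Equiv.Perm W) * (D.ρ a)⁻¹⁻¹
        rw [inv_inv]
      by_cases hM : a⁻¹ * h * a ∈ D.M
      · exact swp_not_mem (e' ▸ D.rho_mem _ hM)
      · have h1 := anti _ hM (rep 2)
        rw [e', swp_linear] at h1
        exact absurd h1 (by decide)
  have hc : Nat.card (Cfsg.isometryGroup (ZMod 2) form6) = 51840 := H20.AutPSU4.card_orth
  exact ⟨MulEquiv.ofBijective φ (hφ.bijective_of_nat_card_le (by rw [hc, card_imageStab D hw]))⟩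

theorem map_eq_imageStab [Q.Normal] (D : Model z Q) {t : Subgroup.centralizer ({z} : Set G)} (htQ : t ∈ Q)
    {S : Subgroup (Subgroup.centralizer ({z} : Set G))}
    (hS : ∀ h : Subgroup.centralizer ({z} : Set G), h ∈ S ↔
      (h * t * h⁻¹ = t ∨ ((h * t * h⁻¹ : Subgroup.centralizer ({z} : Set G)) : G) = t * z)) :
    S.map D.ρ = imageStab D (D.Φ t) := by
  have key : ∀ h, h ∈ S ↔ D.ρ h (D.Φ t) = D.Φ t := by
    intro h
    have hx : h * t * h⁻¹ ∈ Q := Subgroup.Normal.conj_mem inferInstance t htQ h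
    rw [hS, D.conj h t htQ]
    refine ⟨?_, fun e => ?_⟩
    · rintro (e | e)
      · rw [e]
      · have h1 : t⁻¹ * (h * t * h⁻¹) ∈ Q := mul_mem (inv_mem htQ) hx
        have h2 : D.Φ (t⁻¹ * (h * t * h⁻¹)) = 0 := (D.eq_zero _ h1).2 (Or.inr (by
          rw [Subgroup.coe_mul, e, Subgroup.coe_inv, inv_mul_cancel_left]))
        have h3 := D.map_mul t htQ _ h1
        rwa [mul_inv_cancel_left, h2, add_zero] at h3
    · rcases D.eq_or_mul hx htQ e with e' | e'
      · exact Or.inl (Subtype.ext e')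
      · exact Or.inr e'
  ext r
  rw [mem_imageStab]
  constructor
  · rintro ⟨h, hh, rfl⟩
    exact ⟨⟨h, rfl⟩, (key h).1 hh⟩
  · rintro ⟨⟨h, rfl⟩, e⟩
    exact ⟨h, (key h).2 e, rfl⟩

theorem stabilizer_iso [Q.Normal] (D : Model z Q)
    (anti : ∀ h, h ∉ D.M → ∀ v, D.ρ h (wW v) = wW (wW (D.ρ h v)))
    {t : Subgroup.centralizer ({z} : Set G)} (htQ : t ∈ Q) (hlab : lab (D.Φ t) = 2)
    {S : Subgroup (Subgroup.centralizer ({z} : Set G))}
    (hS : ∀ h : Subgroup.centralizer ({z} : Set G), h ∈ S ↔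
      (h * t * h⁻¹ = t ∨ ((h * t * h⁻¹ : Subgroup.centralizer ({z} : Set G)) : G) = t * z)) :
    Nonempty (↥(S.map (QuotientGroup.mk' Q)) ≃* Cfsg.isometryGroup (ZMod 2) form6) := by
  obtain ⟨e⟩ := isometry_of_imageStab D anti hlab
  let f : Subgroup.centralizer ({z} : Set G) ⧸ Q →* Equiv.Perm W := QuotientGroup.lift Q D.ρ D.ker.ge
  have hf : Function.Injective f := by
    rw [injective_iff_map_eq_one]
    intro x hx
    obtain ⟨h, rfl⟩ := QuotientGroup.mk_surjective x
    exact (QuotientGroup.eq_one_iff h).2 (D.ker ▸ MonoidHom.mem_ker.2 hx)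
  have hm : (S.map (QuotientGroup.mk' Q)).map f = imageStab D (D.Φ t) := by
    rw [Subgroup.map_map, ← map_eq_imageStab D htQ hS]
    rfl
  exact ⟨((Subgroup.equivMapOfInjective _ f hf).trans (MulEquiv.subgroupCongr hm)).trans e⟩

end H67.Fi24J
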